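import Cfsg.Agent.H785.OZ8.Cls
import Cfsg.Agent.H785.OZ8.Tools
import Cfsg.Agent.H672.OZ.Full
import Cfsg.Agent.H730.OZ.Asm
import Cfsg.Agent.H631.Kaw.Main
import Cfsg.Agent.Nodes.WittInst
import Cfsg.Agent.S0296
import Cfsg.Agent.H329.O8Facts

/-!
# S4842, the row `POmega⁺₈(2)` (helper785)

No irreducible character of `Ω₈⁺(2)` vanishes on exactly one class: `c = |C(x)| ≥ 6` (there are `2 ^ 24` elements of
order a power of two), `2 ∤ χ(1)` and `3 ∤ χ(1)` by two classes of elements of order 8 and of order 9, the sieve leaves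
`χ(1) = 7, 35`; `16 ≤ χ(1)`, and two classes of elements of order 5 exclude 35.
-/

set_option autoImplicit false
set_option maxRecDepth 100000

open Cfsg Cfsg.Agent.Characters Cfsg.Agent.H732.VZ Cfsg.Agent.H604.OZ

namespace Cfsg.Agent.H785.OZ8

open Cfsg.Agent.StdO8.Model Cfsg.Agent.StdO8.Code Cfsg.Agent.Nodes.RGDChev

universe u

/-- the facts on the group -/
theorem fct_om : H320.O8.Fct Om := by
  obtain ⟨e⟩ := exists_equiv (F := ZMod 2) (by rw [ZMod.card])
  exact (H320.O8.fct_T (F := ZMod 2) (by rw [ZMod.card])).congr e.symm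

theorem finite_om : Finite Om := Nat.finite_of_card_ne_zero (by rw [fct_om.card]; norm_num)

theorem simple_om : IsSimpleGroup Om := by
  obtain ⟨e⟩ := exists_equiv (F := ZMod 2) (by rw [ZMod.card])
  have hs : IsSimpleGroup (POmega (ZMod 2) (quadFormPlus 4 (ZMod 2))) := Cfsg.Agent.S0296.result 4 le_rfl
  have : Nontrivial Om := e.injective.nontrivial
  exact IsSimpleGroup.isSimpleGroup_of_surjective e.toMonoidHom e.surjective

theorem fact_om : (174182400 : ℕ).factorization 2 = 12 := by
  rw [show (174182400 : ℕ) = 2 ^ 12 * 42525 by norm_num, Nat.factorization_mul (by norm_num) (by norm_num),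
    Nat.Prime.factorization_pow Nat.prime_two, Finsupp.add_apply, Finsupp.single_eq_same,
    Nat.factorization_eq_zero_of_not_dvd (by norm_num)]

/-- the number of 2-elements -/
theorem card_two : (H730.OZ.pSet 2 Om).ncard = 2 ^ 24 := by
  have hfin := finite_om
  obtain ⟨e⟩ := exists_equiv (F := ZMod 2) (by rw [ZMod.card])
  have hR : HasRGD 2 Om := (Cfsg.Agent.Nodes.WittInst.hasRGD_PO_plus (F := ZMod 2) 1 (p := 2)).of_equiv e
  have h := H631.Kaw.card_pSet hR
  rw [fct_om.card, fact_om] at h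
  exact h

/-- degrees left by the sieve -/
def DD : List ℕ := [6, 7, 8, 14, 15, 20, 21, 27, 28, 35, 36, 42, 48, 56, 63, 64, 70, 84, 90, 105, 112, 120, 126, 140,
  160, 162, 168, 189, 210, 216, 224, 252, 280, 288, 315, 336, 378, 384, 405, 420, 448, 504, 512, 540, 560, 567, 630,
  672, 720, 756, 840, 896, 945, 960, 1008, 1120, 1134, 1260, 1280, 1296, 1344, 1512, 1680, 1728, 1792, 1890, 2016,
  2240, 2268, 2304, 2520, 2688, 2835, 3024, 3072, 3240, 3360, 3584, 3780, 4032, 4320, 4480, 4536]

theorem DD_ok : ∀ d ∈ DD, 2 ∣ d ∨ 3 ∣ d ∨ d = 7 ∨ d = 35 := by decide +kernel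

theorem not_dvd_of_coprime {m r : ℕ} (hr : r.Prime) (hd : r ∣ 174182400) (h : m.Coprime (Nat.card Om)) : ¬ r ∣ m := by
  rw [fct_om.card] at h
  intro h1
  have h2 := Nat.dvd_gcd h1 hd
  rw [h] at h2
  exact hr.one_lt.ne' (Nat.dvd_one.1 h2)

theorem order_pp {y : Om} {r k : ℕ} (hr : r.Prime) (h : y ^ r ^ k = 1) : ∃ n, orderOf y = r ^ n := by
  obtain ⟨n, -, hn⟩ := (Nat.dvd_prime_pow hr).1 (orderOf_dvd_of_pow_eq_one h)
  exact ⟨n, hn⟩

theorem orderOf_y5 {l : List (ℕ × ℕ)} (h5 : word l ^ 5 = 1) (h1 : word l ^ 1 ≠ 1) : orderOf (word l) = 5 := by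
  have : Fact (Nat.Prime 5) := ⟨by norm_num⟩
  rw [pow_one] at h1
  exact orderOf_eq_prime h5 h1

/-- **The row.** -/
theorem row_om : H730.OZ.Row Om := by
  have hfin := finite_om
  have hsim := simple_om
  have hN := fct_om.card
  refine row_of fun χ x h => ?_
  have h4 : 4 ≤ cent x := four_le_cent h (by rw [hN]; norm_num) (by rw [hN]; norm_num)
  have h2e : (∃ k, orderOf x = 2 ^ k) → 11 ≤ cent x := by
    intro hx
    have h1 := card_le_of_pSet card_two hx
    rw [hN] at h1
    by_contra hlt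
    have h2 : cent x ≤ 10 := by omega
    have h3 := Nat.mul_le_mul_left (2 ^ 24) h2
    omega
  have h6 : 6 ≤ cent x := by
    by_contra hlt
    have h1 : cent x = 4 ∨ cent x = 5 := by omega
    rcases h1 with h1 | h1
    · have h2 := orderOf_dvd_cent x
      rw [h1] at h2
      obtain ⟨n, -, hn⟩ := (Nat.dvd_prime_pow Nat.prime_two).1 (show orderOf x ∣ 2 ^ 2 from h2)
      have h3 := h2e ⟨n, hn⟩
      omega
    · exact cent_prime (ne_one h) (by rw [h1]; norm_num) (by rw [h1, hN]; norm_num)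
  -- the degree is odd
  have hd2 : ¬ 2 ∣ charDegree (χ : Om → ℂ) := by
    intro hd
    have o1 : ∃ n, orderOf (word y8a) = 2 ^ n := order_pp Nat.prime_two (k := 3) pow_y8a
    have o2 : ∃ n, orderOf (word y8b) = 2 ^ n := order_pp Nat.prime_two (k := 3) pow_y8b
    have r1 : ∀ m : ℕ, m.Coprime (Nat.card Om) → IsConj (word y8a ^ m) (word y8a) := fun m hm =>
      rat8 pow_y8a conj3_y8a conj5_y8a (not_dvd_of_coprime Nat.prime_two (by norm_num) hm)
    have r2 : ∀ m : ℕ, m.Coprime (Nat.card Om) → IsConj (word y8b ^ m) (word y8b) := fun m hm =>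
      rat8 pow_y8b conj3_y8b conj5_y8b (not_dvd_of_coprime Nat.prime_two (by norm_num) hm)
    by_cases hx1 : IsConj x (word y8a)
    · have h1 := h2e (by
        obtain ⟨n, hn⟩ := o1
        exact ⟨n, by rw [orderOf_eq_of_conj hx1, hn]⟩)
      have h2 := H849.OZ.one_prime h Nat.prime_two hd o2 r2 fun h' => not_conj_8 (hx1.symm.trans h')
      have h3 : cent (word y8b) ≤ 32 := cent_y8b
      omega
    · by_cases hx2 : IsConj x (word y8b)
      · have h1 := h2e (by
          obtain ⟨n, hn⟩ := o2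
          exact ⟨n, by rw [orderOf_eq_of_conj hx2, hn]⟩)
        have h2 := H849.OZ.one_prime h Nat.prime_two hd o1 r1 hx1
        have h3 : cent (word y8a) ≤ 32 := cent_y8a
        omega
      · have h2 := two_prime h Nat.prime_two hd o1 o2 r1 r2 hx1 hx2 not_conj_8 cent_y8a cent_y8b
        omega
  -- the degree is prime to three
  have hd3 : ¬ 3 ∣ charDegree (χ : Om → ℂ) := by
    intro hd
    have o1 : ∃ n, orderOf (word y9a) = 3 ^ n := order_pp Nat.prime_three (k := 2) pow_y9a
    have o2 : ∃ n, orderOf (word y9b) = 3 ^ n := order_pp Nat.prime_three (k := 2) pow_y9b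
    have r1 : ∀ m : ℕ, m.Coprime (Nat.card Om) → IsConj (word y9a ^ m) (word y9a) := fun m hm =>
      rat9 pow_y9a conj2_y9a (not_dvd_of_coprime Nat.prime_three (by norm_num) hm)
    have r2 : ∀ m : ℕ, m.Coprime (Nat.card Om) → IsConj (word y9b ^ m) (word y9b) := fun m hm =>
      rat9 pow_y9b conj2_y9b (not_dvd_of_coprime Nat.prime_three (by norm_num) hm)
    by_cases hx1 : IsConj x (word y9a)
    · have h2 := H849.OZ.one_prime h Nat.prime_three hd o2 r2 fun h' => not_conj_9 (hx1.symm.trans h')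
      have h3 : cent (word y9b) ≤ 27 := cent_y9b
      omega
    · have h2 := H849.OZ.one_prime h Nat.prime_three hd o1 r1 hx1
      have h3 : cent (word y9a) ≤ 27 := cent_y9a
      omega
  have hc7 : ∀ y : Om, orderOf y = 7 → Nat.card (Subgroup.centralizer ({y} : Set Om)) = 7 := fct_om.c7
  have hiso : ∀ r ∈ [7], charDegree (χ : Om → ℂ) % r = 0 ∨ charDegree (χ : Om → ℂ) % r = 1 ∨
      charDegree (χ : Om → ℂ) % r = r - 1 := by
    intro r hr
    obtain rfl := List.mem_singleton.1 hr
    exact H672.OZ.iso_mod h (by norm_num) le_rfl (by rw [hN]; norm_num) (by rw [hN]; norm_num) (by rw [hN]; norm_num)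
      hc7 h4
  have hm := H672.OZ.mem_of_sieve h hN (l := [(2, 12), (3, 5), (5, 2), (7, 1)]) (by decide +kernel)
    (by
      intro x hx
      simp only [List.mem_cons, List.not_mem_nil, or_false] at hx
      rcases hx with rfl | rfl | rfl | rfl <;> norm_num)
    (by decide +kernel) h6 hiso (D := DD) (by decide +kernel)
  have h16 : 2 ^ 4 ≤ charDegree (χ : Om → ℂ) := HC_le h H329.O8.hc_om
  rcases DD_ok _ hm with h1 | h1 | h1 | h1
  · exact hd2 h1
  · exact hd3 h1
  · omega
  · -- degree 35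
    have hF : Fact (Nat.Prime 7) := ⟨by norm_num⟩
    obtain ⟨z, hz⟩ := exists_prime_orderOf_dvd_card' (G := Om) 7 (by rw [hN]; norm_num)
    have h5d : 5 ∣ charDegree (χ : Om → ℂ) := by rw [h1]; norm_num
    rcases H849.OZ.iso (by norm_num) le_rfl (by rw [hN]; norm_num) (by rw [hN]; norm_num) hz (hc7 z hz) h h4 with
      h2 | h2 | ⟨-, hx7, hcx, -⟩
    · rw [h1] at h2
      omega
    · rw [h1] at h2
      omega
    · have o1 := orderOf_y5 pow_y5a ne_y5a
      have o2 := orderOf_y5 pow_y5b ne_y5b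
      have h3 := two_prime h (r := 5) (by norm_num) h5d (y₁ := word y5a) (y₂ := word y5b) ⟨1, by rw [o1]; norm_num⟩
        ⟨1, by rw [o2]; norm_num⟩
        (fun m hm => rat5 pow_y5a conj2_y5a (not_dvd_of_coprime (by norm_num) (by norm_num) hm))
        (fun m hm => rat5 pow_y5b conj2_y5b (not_dvd_of_coprime (by norm_num) (by norm_num) hm))
        (fun h' => by
          have := orderOf_eq_of_conj h'
          rw [o1, hx7] at this
          omega)
        (fun h' => by
          have := orderOf_eq_of_conj h'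
          rw [o2, hx7] at this
          omega) not_conj_5 cent_y5a cent_y5b
      have h4' : cent x = 7 := hcx
      rw [h4'] at h3
      omega

/-- **S4842, the row `POmega⁺₈(2)`.** -/
theorem row_plus_eight_two {S : Type u} [Group S] [Finite S] (_hs : IsSimpleGroup S) {F : Type} [Field F] [Fintype F]
    (hF : Fintype.card F = 2) (e : S ≃* POmega F (quadFormPlus 4 F)) : H730.OZ.Row S := by
  have hfin := finite_om
  obtain ⟨f⟩ := exists_equiv hF
  exact H730.OZ.Row.congr (e.trans f) row_om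

end Cfsg.Agent.H785.OZ8
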