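import Cfsg.Agent.H785.OZ8.Cert
import Cfsg.Agent.H852.QA.O8Model

/-!
# `Ω₈⁺(2)`: two classes of elements of order 8, 9, 5 (helper785)
-/

set_option autoImplicit false
set_option maxRecDepth 100000

namespace Cfsg.Agent.H785.OZ8

open Cfsg.Agent.StdO8.Model Cfsg.Agent.StdO8.Code Cfsg.Agent.H633.Ore
open Cfsg.Agent.H852.QA

/-! ### `y8a` -/

/-- element of order 8 -/
def y8a : List (ℕ × ℕ) := [(165, 182), (64, 2), (4, 128)]

/-- matrix -/
def Ly8a : List ℕ := [164, 180, 176, 14, 3, 115, 118, 128]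

/-- certificate -/
def Sy8a : List Step := [
  .fixd 0 2 1, .fixd 0 1 0, .base 0 32 2 [0, 1], .andn 4 3, .base 0 1 2 [0], .andn 8 4, .andn 0 4, .andn 0 2,
  .andn 0 10, .andn 7 8, .andn 0 5, .self 0 1 0, .cnt 3 0 0 0, .base 0 0 2 [0, 1, 2, 3], .andn 6 2,
  .base 0 4 4 [0, 1, 2, 3, 4, 5, 6, 7], .and 18 4, .and 0 24, .andn 0 9,
  .base 0 44 2 [0, 1, 2, 3, 4, 5, 6, 7], .fin [305, 39, 807, 314, 556, 257, 54, 51]]

theorem l_y8a : chkL y8a Ly8a = true := by decide +kernel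

theorem e_y8a : chkE Ly8a 7 Sy8a = true := by decide +kernel

theorem p_y8a : prodB Sy8a = 64 := by decide +kernel

theorem cent_y8a : Nat.card ↥(Subgroup.centralizer ({word y8a} : Set Om)) ≤ 32 := by
  have h := cent_le_half l_y8a e_y8a (n := 19) (by decide +kernel) (by decide +kernel)
  rw [p_y8a] at h
  omega

theorem conj3_y8a : IsConj (word y8a) (word y8a ^ 3) :=
  isConj_iff.2 ⟨word [(97, 147), (6, 116)], O8.conj_of (by decide +kernel)⟩

theorem conj5_y8a : IsConj (word y8a) (word y8a ^ 5) :=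
  isConj_iff.2 ⟨word [(128, 182)], O8.conj_of (by decide +kernel)⟩

theorem pow_y8a : word y8a ^ 8 = 1 := O8.pow_of (by decide +kernel)

theorem ne_y8a : word y8a ^ 4 ≠ 1 := by
  rw [← O8.word_rp]
  exact O8.ne_one_of_tst (by decide +kernel)

/-! ### `y8b` -/

/-- element of order 8 -/
def y8b : List (ℕ × ℕ) := [(8, 4), (28, 87), (224, 42)]

/-- matrix -/
def Ly8b : List ℕ := [66, 52, 194, 210, 12, 208, 11, 55]

/-- certificate -/
def Sy8b : List Step := [
  .fixd 0 2 1, .fixd 0 1 0, .cnt 0 0 0 6, .base 0 88 8 [0, 1], .andn 4 3, .base 0 12 2 [0, 1], .andn 10 5,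
  .andn 0 5, .andn 0 3, .andn 0 3, .and 1 4, .self 0 1 0, .cnt 2 0 0 4, .base 0 106 2 [0, 1, 2, 3],
  .and 17 1, .andn 0 17, .andn 0 4, .andn 0 16, .andn 0 16, .base 0 59 2 [0, 1, 2, 3, 4, 5, 6, 7],
  .and 36 10, .and 0 8, .base 0 11 1 [0, 1, 2, 3, 4, 5, 6, 7], .fin [770, 558, 785, 819, 17, 535, 275, 35]]

theorem l_y8b : chkL y8b Ly8b = true := by decide +kernel

theorem e_y8b : chkE Ly8b 7 Sy8b = true := by decide +kernel

theorem p_y8b : prodB Sy8b = 64 := by decide +kernel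

theorem cent_y8b : Nat.card ↥(Subgroup.centralizer ({word y8b} : Set Om)) ≤ 32 := by
  have h := cent_le_half l_y8b e_y8b (n := 38) (by decide +kernel) (by decide +kernel)
  rw [p_y8b] at h
  omega

theorem conj3_y8b : IsConj (word y8b) (word y8b ^ 3) :=
  isConj_iff.2 ⟨word [(97, 38), (157, 91)], O8.conj_of (by decide +kernel)⟩

theorem conj5_y8b : IsConj (word y8b) (word y8b ^ 5) :=
  isConj_iff.2 ⟨word [(28, 202)], O8.conj_of (by decide +kernel)⟩

theorem pow_y8b : word y8b ^ 8 = 1 := O8.pow_of (by decide +kernel)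

theorem ne_y8b : word y8b ^ 4 ≠ 1 := by
  rw [← O8.word_rp]
  exact O8.ne_one_of_tst (by decide +kernel)

/-! ### `y9a` -/

/-- element of order 9 -/
def y9a : List (ℕ × ℕ) := [(186, 237), (129, 88), (192, 81)]

/-- matrix -/
def Ly9a : List ℕ := [193, 85, 13, 206, 179, 205, 250, 236]

/-- certificate -/
def Sy9a : List Step := [
  .fixd 0 1 1, .base 0 40 3 [0], .andn 2 1, .base 0 70 2 [0], .andn 0 3, .andn 0 6, .self 0 1 0,
  .base 0 18 9 [0, 1, 2, 3, 4, 5, 6, 7, 8], .fin [93, 625, 626, 22, 12, 590, 118, 104]]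

theorem l_y9a : chkL y9a Ly9a = true := by decide +kernel

theorem e_y9a : chkE Ly9a 8 Sy9a = true := by decide +kernel

theorem p_y9a : prodB Sy9a = 54 := by decide +kernel

theorem cent_y9a : Nat.card ↥(Subgroup.centralizer ({word y9a} : Set Om)) ≤ 27 := by
  have h := cent_le_half l_y9a e_y9a (n := 98) (by decide +kernel) (by decide +kernel)
  rw [p_y9a] at h
  omega

theorem conj2_y9a : IsConj (word y9a) (word y9a ^ 2) :=
  isConj_iff.2 ⟨word [(131, 152), (15, 54), (32, 177)], O8.conj_of (by decide +kernel)⟩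

theorem pow_y9a : word y9a ^ 9 = 1 := O8.pow_of (by decide +kernel)

theorem ne_y9a : word y9a ^ 3 ≠ 1 := by
  rw [← O8.word_rp]
  exact O8.ne_one_of_tst (by decide +kernel)

/-! ### `y9b` -/

/-- element of order 9 -/
def y9b : List (ℕ × ℕ) := [(64, 1), (231, 149), (205, 44), (16, 4)]

/-- matrix -/
def Ly9b : List ℕ := [41, 40, 206, 37, 125, 18, 8, 97]

/-- certificate -/
def Sy9b : List Step := [
  .fixd 0 3 1, .base 0 39 3 [0, 1, 2], .andn 1 2, .andn 0 5, .self 0 4 1,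
  .base 0 9 9 [0, 1, 2, 3, 4, 5, 6, 7, 8], .fin [100, 172, 156, 97, 72, 55, 194, 221]]

theorem l_y9b : chkL y9b Ly9b = true := by decide +kernel

theorem e_y9b : chkE Ly9b 8 Sy9b = true := by decide +kernel

theorem p_y9b : prodB Sy9b = 27 := by decide +kernel

theorem cent_y9b : Nat.card ↥(Subgroup.centralizer ({word y9b} : Set Om)) ≤ 27 := by
  have h := cent_le l_y9b e_y9b
  rwa [p_y9b] at h

theorem conj2_y9b : IsConj (word y9b) (word y9b ^ 2) :=
  isConj_iff.2 ⟨word [(180, 92), (148, 162), (243, 23)], O8.conj_of (by decide +kernel)⟩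

theorem pow_y9b : word y9b ^ 9 = 1 := O8.pow_of (by decide +kernel)

theorem ne_y9b : word y9b ^ 3 ≠ 1 := by
  rw [← O8.word_rp]
  exact O8.ne_one_of_tst (by decide +kernel)

/-! ### `y5a` -/

/-- element of order 5 -/
def y5a : List (ℕ × ℕ) := [(44, 138), (246, 39)]

/-- matrix -/
def Ly5a : List ℕ := [252, 9, 249, 217, 64, 161, 75, 10]

/-- certificate -/
def Sy5a : List Step := [
  .fixd 0 1 1, .base 0 22 10 [0], .andn 2 0, .andn 0 2, .base 0 55 3 [0], .andn 2 1, .base 0 72 2 [0],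
  .andn 9 0, .and 0 8, .base 0 69 2 [0], .andn 4 7, .andn 0 12, .andn 0 2, .self 0 1 0,
  .base 0 23 5 [0, 1, 2, 3, 4], .fin [171, 36, 84, 137, 55, 222, 59, 186]]

theorem l_y5a : chkL y5a Ly5a = true := by decide +kernel

theorem e_y5a : chkE Ly5a 4 Sy5a = true := by decide +kernel

theorem p_y5a : prodB Sy5a = 600 := by decide +kernel

theorem cent_y5a : Nat.card ↥(Subgroup.centralizer ({word y5a} : Set Om)) ≤ 300 := by
  have h := cent_le_half l_y5a e_y5a (n := 61) (by decide +kernel) (by decide +kernel)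
  rw [p_y5a] at h
  omega

theorem conj2_y5a : IsConj (word y5a) (word y5a ^ 2) :=
  isConj_iff.2 ⟨word [(26, 39), (246, 124)], O8.conj_of (by decide +kernel)⟩

theorem pow_y5a : word y5a ^ 5 = 1 := O8.pow_of (by decide +kernel)

theorem ne_y5a : word y5a ^ 1 ≠ 1 := by
  rw [← O8.word_rp]
  exact O8.ne_one_of_tst (by decide +kernel)

/-! ### `y5b` -/

/-- element of order 5 -/
def y5b : List (ℕ × ℕ) := [(165, 10), (4, 128), (8, 64), (3, 187)]

/-- matrix -/
def Ly5b : List ℕ := [8, 1, 2, 15, 192, 95, 111, 67]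

/-- certificate -/
def Sy5b : List Step := [
  .self 0 1 0, .base 0 0 60 [0, 1, 2, 3, 4], .andn 6 4, .andn 0 4, .andn 0 4, .andn 0 4,
  .base 0 7 5 [0, 1, 2, 3, 4], .fin [396, 231, 462, 198, 108, 491, 261, 195]]

theorem l_y5b : chkL y5b Ly5b = true := by decide +kernel

theorem e_y5b : chkE Ly5b 4 Sy5b = true := by decide +kernel

theorem p_y5b : prodB Sy5b = 300 := by decide +kernel

theorem cent_y5b : Nat.card ↥(Subgroup.centralizer ({word y5b} : Set Om)) ≤ 300 := by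
  have h := cent_le l_y5b e_y5b
  rwa [p_y5b] at h

theorem conj2_y5b : IsConj (word y5b) (word y5b ^ 2) :=
  isConj_iff.2 ⟨word [(63, 46), (144, 143), (224, 172)], O8.conj_of (by decide +kernel)⟩

theorem pow_y5b : word y5b ^ 5 = 1 := O8.pow_of (by decide +kernel)

theorem ne_y5b : word y5b ^ 1 ≠ 1 := by
  rw [← O8.word_rp]
  exact O8.ne_one_of_tst (by decide +kernel)


/-! ### class functions -/

/-- the number of nonsingular vectors fixed by the square -/
noncomputable def fz (g : Om) : ℕ := Nat.card {v : V // q v = 1 ∧ (g : V ≃ₗ[ZMod 2] V) ((g : V ≃ₗ[ZMod 2] V) v) = v}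

theorem fz_conj {g h : Om} (hc : IsConj g h) : fz g = fz h := by
  obtain ⟨y, rfl⟩ := isConj_iff.1 hc
  refine Nat.card_congr (Equiv.subtypeEquiv (y : V ≃ₗ[ZMod 2] V).toEquiv fun v => ?_)
  show q v = 1 ∧ (g : V ≃ₗ[ZMod 2] V) ((g : V ≃ₗ[ZMod 2] V) v) = v ↔ q ((y : V ≃ₗ[ZMod 2] V) v) = 1 ∧
    ((y * g * y⁻¹ : Om) : V ≃ₗ[ZMod 2] V) (((y * g * y⁻¹ : Om) : V ≃ₗ[ZMod 2] V) ((y : V ≃ₗ[ZMod 2] V) v)) =
    (y : V ≃ₗ[ZMod 2] V) v
  have h1 : ∀ w, ((y * g * y⁻¹ : Om) : V ≃ₗ[ZMod 2] V) ((y : V ≃ₗ[ZMod 2] V) w) =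
      (y : V ≃ₗ[ZMod 2] V) ((g : V ≃ₗ[ZMod 2] V) w) := by
    intro w
    show (y : V ≃ₗ[ZMod 2] V) ((g : V ≃ₗ[ZMod 2] V) (((y : V ≃ₗ[ZMod 2] V)⁻¹) ((y : V ≃ₗ[ZMod 2] V) w))) = _
    have h2 : ((y : V ≃ₗ[ZMod 2] V)⁻¹) ((y : V ≃ₗ[ZMod 2] V) w) = w := (y : V ≃ₗ[ZMod 2] V).symm_apply_apply w
    rw [h2]
  rw [h1, h1, (y : V ≃ₗ[ZMod 2] V).injective.eq_iff, O8_q (Om_le y.2)]

/-- the number on codes -/
def fzn (l : List (ℕ × ℕ)) : ℕ := (List.range 256).countP fun v => qn v && ev l (ev l v) == v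

theorem fz_word {l : List (ℕ × ℕ)} (hl : l.all ok = true) (h : ∀ v : Fin 256, ev l (ev l v) < 256) :
    fz (word l) = fzn l := by
  have hb : Function.Bijective (fun a : Fin 256 => dec a.1) := by
    refine ⟨fun a b hab => Fin.ext (dec_inj a.2 b.2 hab), fun v => ?_⟩
    obtain ⟨a, ha, rfl⟩ := dec_surj v
    exact ⟨⟨a, ha⟩, rfl⟩
  have h1 : fz (word l) = Nat.card {a : Fin 256 // qn a = true ∧ ev l (ev l a) = a} := by
    refine Nat.card_congr (Equiv.subtypeEquiv (Equiv.ofBijective _ hb) fun a => ?_).symm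
    show qn a = true ∧ ev l (ev l a) = a ↔ q (dec a) = 1 ∧
      ((word l : Om) : V ≃ₗ[ZMod 2] V) (((word l : Om) : V ≃ₗ[ZMod 2] V) (dec a)) = dec a
    rw [word_dec hl, word_dec hl, q_dec]
    refine and_congr ⟨fun e => by rw [e]; rfl, fun e => cc_eq_one e⟩
      ⟨fun e => by rw [e], fun e => dec_inj (h a) a.2 e⟩
  rw [h1, Nat.card_eq_fintype_card, Fintype.card_subtype]
  have h2 : fzn l = ((List.finRange 256).countP fun a => qn a.1 && ev l (ev l a.1) == a.1) := by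
    rw [fzn, ← List.map_coe_finRange_eq_range, List.countP_map]
    rfl
  rw [h2, List.countP_eq_length_filter, ← List.toFinset_card_of_nodup ((List.nodup_finRange 256).filter _)]
  congr 1
  ext a
  simp

theorem not_conj_8 : ¬ IsConj (word y8a) (word y8b) := by
  intro h
  have h1 := fz_conj h
  rw [fz_word (by decide +kernel) (by decide +kernel), fz_word (by decide +kernel) (by decide +kernel)] at h1
  revert h1
  decide +kernel

theorem not_conj_9 : ¬ IsConj (word y9a) (word y9b) := by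
  intro h
  have h1 := O8.fx_conj h
  rw [O8.fx_word (by decide +kernel) (by decide +kernel), O8.fx_word (by decide +kernel) (by decide +kernel)] at h1
  revert h1
  decide +kernel

theorem not_conj_5 : ¬ IsConj (word y5a) (word y5b) := by
  intro h
  have h1 := O8.fx_conj h
  rw [O8.fx_word (by decide +kernel) (by decide +kernel), O8.fx_word (by decide +kernel) (by decide +kernel)] at h1
  revert h1
  decide +kernel

end Cfsg.Agent.H785.OZ8
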